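import Cfsg.Agent.Lib.Comp.O8x.Mu0
import Cfsg.Agent.Lib.Comp.O8x.Main
import Cfsg.Agent.Lib.Comp.Cover
import Cfsg.Agent.Lib.MatB.Mult

set_option maxRecDepth 100000
set_option Elab.async false

namespace Cfsg.Lib.Comp.O8x

universe u

theorem Mu_mb : Cfsg.Lib.MatB.MB2 (cl (gp nets) L) 420 2 2 :=
  Cfsg.Lib.MatB.mb_two (w := 26) (n := 31) (La := L) (ix := nth 0 [0,0,0,1,3,6,11,16,22]) (by norm_num) (by norm_num) (nets_iv.sval _) (nets_rel.sval fun r hr x hx => mem_cl (sub_of_allR (by decide +kernel) r hr x hx)) (by decide +kernel)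
    (TStep.trans (TStep.trans (TStep.trans (TStep.trans (TStep.trans (TStep.trans (TStep.trans (TStep.trans (TStep.trans (TStep.trans (TStep.trans (TStep.trans (TStep.trans (TStep.trans (TStep.trans (TStep.trans (TStep.repar (k' := 24) (by norm_num) (by norm_num) (by decide +kernel) (by decide +kernel) Mu1_b)
    (TStep.enum0 (by norm_num) (by norm_num) Mu2_0 (Gs := Mu2G) (by decide +kernel)))
    (TStep.repar (k' := 23) (by norm_num) (by norm_num) (by decide +kernel) (by decide +kernel) Mu3_b))
    (TStep.enum0 (by norm_num) (by norm_num) Mu4_0 (Gs := Mu4G) (by decide +kernel)))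
    (TStep.repar (k' := 23) (by norm_num) (by norm_num) (by decide +kernel) (by decide +kernel) Mu5_b))
    (TStep.enum0 (by norm_num) (by norm_num) Mu6_0 (Gs := Mu6G) (by decide +kernel)))
    (TStep.repar (k' := 23) (by norm_num) (by norm_num) (by decide +kernel) (by decide +kernel) Mu7_b))
    (TStep.enum0 (by norm_num) (by norm_num) Mu8_0 (Gs := Mu8G) (by decide +kernel)))
    (TStep.repar (k' := 18) (by norm_num) (by norm_num) (by decide +kernel) (by decide +kernel) Mu9_b))
    (TStep.enum0 (by norm_num) (by norm_num) Mu10_0 (Gs := Mu10G) (by decide +kernel)))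
    (TStep.repar (k' := 13) (by norm_num) (by norm_num) (by decide +kernel) (by decide +kernel) Mu11_b))
    (TStep.enum0 (by norm_num) (by norm_num) Mu12_0 (Gs := Mu12G) (by decide +kernel)))
    (TStep.repar (k' := 8) (by norm_num) (by norm_num) (by decide +kernel) (by decide +kernel) Mu13_b))
    (TStep.enum0 (by norm_num) (by norm_num) Mu14_0 (Gs := Mu14G) (by decide +kernel)))
    (TStep.repar (k' := 2) (by norm_num) (by norm_num) (by decide +kernel) (by decide +kernel) Mu15_b))
    (TStep.enum0 (by norm_num) (by norm_num) Mu16_0 (Gs := Mu16G) (by decide +kernel)))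
    (TStep.repar (k' := 2) (by norm_num) (by norm_num) (by decide +kernel) (by decide +kernel) Mu17_b))
    (by decide +kernel) ord card.ge (cl_sval_top _ _)

end Cfsg.Lib.Comp.O8x
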