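import Cfsg.Agent.Lib.Comp.O8x.Base

set_option maxRecDepth 100000
set_option Elab.async false

namespace Cfsg.Lib.Comp.O8x

universe u

noncomputable def T1_R : List (List ℕ × ℕ) := [([1],2),
 ([3],1),
 ([1,3],2),
 ([4],1),
 ([3,4],1),
 ([1,4],2),
 ([5],1),
 ([1,5],1),
 ([3,5],2),
 ([4,5],2),
 ([1,3,1,4,5,4],1),
 ([6],1),
 ([1,6],1),
 ([3,6],1),
 ([5,6],1),
 ([4,6],2),
 ([7],1),
 ([1,7],1),
 ([3,7],1),
 ([4,7],1),
 ([5,7],1),
 ([6,7],2),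
 ([1,2],0)]

noncomputable def T1_n_1 : Net :=
 (Net.cons 32 (nat_lit 0x10000000)
 (Net.cons 16 (nat_lit 0x6000)
 (Net.cons 8 (nat_lit 0x1600ae00e600c0)
 (Net.cons 4 (nat_lit 0x6000e0200060208)
 (Net.cons 2 (nat_lit 0x2000022002020020)
 (Net.cons 1 (nat_lit 0x4000144544041010)
 (Net.cons 2 (nat_lit 0x3000002002032100)
 (Net.cons 4 (nat_lit 0x601080c0a060608)
 (Net.cons 8 (nat_lit 0x16004c00e600c0)
 (Net.cons 16 (nat_lit 0x100100006000)
 (Net.cons 32 (nat_lit 0x10000000)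
 Net.nil)))))))))))

noncomputable def T1_n_3 : Net :=
 (Net.cons 32 (nat_lit 0x80000000)
 (Net.cons 16 (nat_lit 0xc00000000000)
 (Net.cons 8 (nat_lit 0xc000f000080060)
 (Net.cons 4 (nat_lit 0x20008060a0800)
 (Net.cons 2 (nat_lit 0x2020002200000)
 (Net.cons 1 (nat_lit 0x1541501454050)
 (Net.cons 2 (nat_lit 0x22320010020130)
 (Net.cons 4 (nat_lit 0x6000806040a00)
 (Net.cons 8 (nat_lit 0xc000f000210060)
 (Net.cons 16 (nat_lit 0xc00000000000)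
 (Net.cons 32 (nat_lit 0x80000000)
 Net.nil)))))))))))

noncomputable def T1_n_4 : Net :=
 (Net.cons 32 (nat_lit 0x20000000)
 (Net.cons 16 (nat_lit 0x240000000000)
 (Net.cons 8 (nat_lit 0xe000200002)
 (Net.cons 4 (nat_lit 0x400060c0400020c)
 (Net.cons 2 (nat_lit 0x2002002020022000)
 (Net.cons 1 (nat_lit 0x4014154540441150)
 (Net.cons 2 (nat_lit 0x2002032020022002)
 (Net.cons 4 (nat_lit 0x400060c0d00060c)
 (Net.cons 8 (nat_lit 0xe000200002)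
 (Net.cons 16 (nat_lit 0x240000000000)
 (Net.cons 32 (nat_lit 0x20000000)
 Net.nil)))))))))))

noncomputable def T1_n_5 : Net :=
 (Net.cons 32 (nat_lit 0x80000000)
 (Net.cons 16 (nat_lit 0xf00000008000)
 (Net.cons 8 (nat_lit 0x220090001800f8)
 (Net.cons 4 (nat_lit 0x204000000000000)
 (Net.cons 2 (nat_lit 0x20022000022020)
 (Net.cons 1 (nat_lit 0x5040044100444440)
 (Net.cons 2 (nat_lit 0x20022000020220)
 (Net.cons 4 (nat_lit 0x20501080f000f00)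
 (Net.cons 8 (nat_lit 0x220090001800f8)
 (Net.cons 16 (nat_lit 0xf00000008000)
 (Net.cons 32 (nat_lit 0x80000000)
 Net.nil)))))))))))

noncomputable def T1_n_6 : Net :=
 (Net.cons 32 (nat_lit 0x80000000)
 (Net.cons 16 (nat_lit 0xc0000000e000)
 (Net.cons 8 (nat_lit 0x7800ca0080)
 (Net.cons 4 (nat_lit 0x800020800)
 (Net.cons 2 (nat_lit 0x22220002200002)
 (Net.cons 1 (nat_lit 0x4044111541110014)
 (Net.cons 2 (nat_lit 0x22220002200302)
 (Net.cons 4 (nat_lit 0x60802060800)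
 (Net.cons 8 (nat_lit 0x7800ca0080)
 (Net.cons 16 (nat_lit 0xc0000000e000)
 (Net.cons 32 (nat_lit 0x80000000)
 Net.nil)))))))))))

noncomputable def T1_n_7 : Net :=
 (Net.cons 32 (nat_lit 0x50000000)
 (Net.cons 16 (nat_lit 0xf00000000000)
 (Net.cons 8 (nat_lit 0x1800180080)
 (Net.cons 4 (nat_lit 0x80008000800)
 (Net.cons 2 (nat_lit 0x2022000022000)
 (Net.cons 1 (nat_lit 0x5044444115444011)
 (Net.cons 2 (nat_lit 0x2023100202300)
 (Net.cons 4 (nat_lit 0x8070b0e0800)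
 (Net.cons 8 (nat_lit 0x1800180080)
 (Net.cons 16 (nat_lit 0xf00000000000)
 (Net.cons 32 (nat_lit 0x50000000)
 Net.nil)))))))))))

noncomputable def T1_n : List Net := [Net.nil,
 T1_n_1,
 Net.rev T1_n_1,
 T1_n_3,
 T1_n_4,
 T1_n_5,
 T1_n_6,
 T1_n_7]

theorem T1_n_ok : NetsOK 64 T1_n := netsOK_of (by decide +kernel)

theorem T1_n_rel : Rels (gp T1_n) T1_R := rels_of_relsB (k := 6) T1_n_ok (by norm_num) (by decide +kernel)

theorem T1_fin : finB 64 T1_n [1,2,3,4,5,6,7] 56 (runH 64 T1_n (fun x p => ptInv (nth Net.nil T1_n x) p) iv T1_R [] ([1,2,3,4,5,6].map fun x => [x]) 0 []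
  (apd [1,5,9,13,17,21,4,12,16,24,44,52,56,64,68,72,76,80,84,88,0,28,48,52,56,60,76,80,88,16,20,24,32,36,40,44,48,52,56,60,68,72,76,80,84,4,8,12,16,20,24,32,44,48,52,64,68,72,88,0]
 [8,16,20,28,32,36,40,48,52,56,60,68,72,76,80,84,88,8,12,16,20,24,28,36,40,44,48,52,56,68,72,80,88,0,4,8,12,16,20,28,32,36,44,48,52,56,60,64,68,72,76,80,84,88,16,64,68,72,76,84])
  (defsH 64 T1_n (ones 576) [7,6,4,5,1,2,3,4,6,7,1,3,4,5,6,1,2,4,5,1,2,3,4,6,7] (Nat.shiftLeft 1 0) 0)) = true := by decide +kernel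

theorem T1_idx : Idx.{u} iv (T1_R ++ []) ([1,2,3,4,5,6].map fun x => [x]) [1,2,3,4,5,6,7] 56 :=
  Reach.idx T1_n_ok (reach_runH T1_n_ok (fun x p _ => ptInv_gp T1_n_ok x p) T1_n_rel (reach_defsH T1_n_ok _ _ _ _ _ _) _ _) T1_fin (by norm_num)

end Cfsg.Lib.Comp.O8x
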