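import Cfsg.Agent.Lib.Comp.O8x.Base

set_option maxRecDepth 100000
set_option Elab.async false

namespace Cfsg.Lib.Comp.O8x

universe u

noncomputable def T2_R : List (List ℕ × ℕ) := [([1],2),
 ([3],1),
 ([1,3],2),
 ([4],1),
 ([3,4],1),
 ([1,4],2),
 ([5],1),
 ([1,5],1),
 ([3,5],2),
 ([4,5],2),
 ([1,3,1,4,5,4],1),
 ([6],1),
 ([1,6],1),
 ([3,6],1),
 ([5,6],1),
 ([4,6],2),
 ([1,2],0)]

noncomputable def T2_n_1 : Net :=
 (Net.cons 8 (nat_lit 0x800042)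
 (Net.cons 4 (nat_lit 0x800040c)
 (Net.cons 2 (nat_lit 0x2000200)
 (Net.cons 1 (nat_lit 0x4011140)
 (Net.cons 2 (nat_lit 0x2312)
 (Net.cons 4 (nat_lit 0x801040e)
 (Net.cons 8 (nat_lit 0x800042)
 Net.nil)))))))

noncomputable def T2_n_3 : Net :=
 (Net.cons 16 (nat_lit 0x8000)
 (Net.cons 8 (nat_lit 0xc000b0)
 (Net.cons 4 (nat_lit 0x80c08)
 (Net.cons 2 (nat_lit 0x2002000)
 (Net.cons 1 (nat_lit 0x44154050)
 (Net.cons 2 (nat_lit 0x2002200)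
 (Net.cons 4 (nat_lit 0x80d08)
 (Net.cons 8 (nat_lit 0xc000b0)
 (Net.cons 16 (nat_lit 0x8000)
 Net.nil)))))))))

noncomputable def T2_n_4 : Net :=
 (Net.cons 8 (nat_lit 0x58)
 (Net.cons 4 (nat_lit 0xc06)
 (Net.cons 2 (nat_lit 0x2002000)
 (Net.cons 1 (nat_lit 0x4011054)
 (Net.cons 2 (nat_lit 0x2302130)
 (Net.cons 4 (nat_lit 0xe06)
 (Net.cons 8 (nat_lit 0x58)
 Net.nil)))))))

noncomputable def T2_n_5 : Net :=
 (Net.cons 16 (nat_lit 0x4000)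
 (Net.cons 8 (nat_lit 0x400074)
 (Net.cons 4 (nat_lit 0x6080000)
 (Net.cons 2 (nat_lit 0x20000200)
 (Net.cons 1 (nat_lit 0x40011410)
 (Net.cons 2 (nat_lit 0x21201300)
 (Net.cons 4 (nat_lit 0x60c0708)
 (Net.cons 8 (nat_lit 0x400074)
 (Net.cons 16 (nat_lit 0x4000)
 Net.nil)))))))))

noncomputable def T2_n_6 : Net :=
 (Net.cons 16 (nat_lit 0xf000)
 (Net.cons 8 (nat_lit 0x5400c0)
 (Net.cons 4 (nat_lit 0x40c08)
 (Net.cons 2 (nat_lit 0x22200020)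
 (Net.cons 1 (nat_lit 0x14440011)
 (Net.cons 2 (nat_lit 0x22200320)
 (Net.cons 4 (nat_lit 0x2070c08)
 (Net.cons 8 (nat_lit 0x7200c0)
 (Net.cons 16 (nat_lit 0xf000)
 Net.nil)))))))))

noncomputable def T2_n : List Net := [Net.nil,
 T2_n_1,
 Net.rev T2_n_1,
 T2_n_3,
 T2_n_4,
 T2_n_5,
 T2_n_6]

theorem T2_n_ok : NetsOK 32 T2_n := netsOK_of (by decide +kernel)

theorem T2_n_rel : Rels (gp T2_n) T2_R := rels_of_relsB (k := 5) T2_n_ok (by norm_num) (by decide +kernel)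

theorem T2_fin : finB 32 T2_n [1,2,3,4,5,6] 27 (runH 32 T2_n (fun x p => ptInv (nth Net.nil T2_n x) p) iv T2_R [] ([1,2,3,4,5].map fun x => [x]) 0 []
  (apd [1,5,9,13,17,4,12,16,24,44,48,52,56,60,64,0,16,20,28,32,36,40,48,52,56,64,4,8,12,16,20,24,32,36,44,48,52,56,60,64,0,8,16,20,28,32,36,40,48,52,60,64,8,12,16,24,36,40,52,56]
 [4,48,44])
  (defsH 32 T2_n (ones 288) [6,4,5,1,2,3,4,6,1,3,4,5,1,2] (Nat.shiftLeft 1 0) 0)) = true := by decide +kernel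

theorem T2_idx : Idx.{u} iv (T2_R ++ []) ([1,2,3,4,5].map fun x => [x]) [1,2,3,4,5,6] 27 :=
  Reach.idx T2_n_ok (reach_runH T2_n_ok (fun x p _ => ptInv_gp T2_n_ok x p) T2_n_rel (reach_defsH T2_n_ok _ _ _ _ _ _) _ _) T2_fin (by norm_num)

end Cfsg.Lib.Comp.O8x
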